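import Groth.Agent.PureMagLib.Main
import Groth.Agent.MagnetLib.Fixed
import Groth.Agent.MagnetLib.Descend
import Groth.Agent.S18302
import Mathlib.AlgebraicGeometry.Morphisms.Etale

/-!
# Images of attractors along strongly fixed-point reflecting atlases
-/

set_option autoImplicit false
set_option linter.style.haveILetI false
universe u

open CategoryTheory CategoryTheory.Limits MonoidalCategory CartesianMonoidalCategory MonObj AlgebraicGeometry Opposite
open Magnet
open MagnetLib (Ext)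

noncomputable section

namespace PureMagLib

set_option backward.isDefEq.respectTransparency.types true

section Generic

variable {C : Type (u+1)} [Category.{u} C] [CartesianMonoidalCategory C] {A B Y : C} [MonObj A]

theorem evalAt_map (ρ : MonAct A B) (c : MonAct A Y) (e : 𝟙_ C ⟶ B) {T T' : C} (q : T' ⟶ T)
    (φ : (MonAct.eqvHom ρ c).obj (op T)) :
    (MonAct.eqvHom.evalAt ρ c e).app (op T') ((MonAct.eqvHom ρ c).map q.op φ) =
      q ≫ (MonAct.eqvHom.evalAt ρ c e).app (op T) φ := by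
  simp [comp_lift_assoc]

theorem evalAt_postcomp (ρ : MonAct A B) {Y' : C} (c : MonAct A Y) (c' : MonAct A Y') (f : Y ⟶ Y')
    (hf : MonAct.IsEquivariant c c' f) (e : 𝟙_ C ⟶ B) {T : C} (φ : (MonAct.eqvHom ρ c).obj (op T)) :
    (MonAct.eqvHom.evalAt ρ c' e).app (op T) ((MonAct.eqvHom.postcomp ρ f hf).app (op T) φ) =
      (MonAct.eqvHom.evalAt ρ c e).app (op T) φ ≫ f := by
  exact (Category.assoc (lift (toUnit T ≫ e) (𝟙 T)) φ.1 f).symm

theorem iso_val {F : Cᵒᵖ ⥤ Type u} {c : MonAct A Y} (ε : F ≅ MonAct.fixedPsh c) (θ : F ⟶ yoneda.obj Y)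
    (h : ε.hom ≫ MonAct.fixedPshι _ = θ) {T : C} (φ : F.obj (op T)) :
    ((ε.app (op T)).toEquiv φ).1 = θ.app (op T) φ := by
  subst h
  rfl

end Generic

variable {S : Scheme.{u}} {M : Type} [AddCommGroup M] [AddGroup.FG M] {X U : Over S}
  (a : MonAct (AMonS S M) X) (aU : MonAct (AMonS S M) U) (g : U ⟶ X) (hg : MonAct.IsEquivariant aU a g)

theorem exists_unit_lift [Etale g.left] [Surjective g.left] (hg : MonAct.IsEquivariant aU a g)
    (Q : AddSubmonoid M) (Z : AddSubgroup M) (hQZ : ∀ m, m ∈ Q ↔ m ∈ Z)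
    (hgZ : MonAct.IsEquivariant
      (aU.restrict (AMonS.map S (QuotientAddGroup.mk' Z))) (a.restrict (AMonS.map S (QuotientAddGroup.mk' Z))) g)
    (hfpr : IsPullback (MonAct.fixedPsh.map g hgZ)
      (MonAct.fixedPshι (aU.restrict (AMonS.map S (QuotientAddGroup.mk' Z))))
      (MonAct.fixedPshι (a.restrict (AMonS.map S (QuotientAddGroup.mk' Z)))) (yoneda.map g))
    {T : Over S} (cc₀ : (attr a Q).obj (op T)) :
    ∃ (T' : Over S) (q : T' ⟶ T) (δ : (attr aU Q).obj (op T')), DescLib.Fpqc q.left ∧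
      (MonAct.eqvHom.postcomp (subAct S M Q) g hg).app (op T') δ = (attr a Q).map q.op cc₀ := by
  obtain ⟨εX, hεX⟩ := MagnetLib.exists_iso Q Z hQZ a
  obtain ⟨εU, hεU⟩ := MagnetLib.exists_iso Q Z hQZ aU
  let cc : (attr a Q).obj (op T) := cc₀
  let x₀ : T ⟶ X := (attrToX a Q).app (op T) cc
  -- the base change of the atlas along the limit point
  let T' : Over S := Over.mk (Limits.pullback.fst x₀.left g.left ≫ T.hom)
  let q : T' ⟶ T := Over.homMk (Limits.pullback.fst x₀.left g.left) rfl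
  let u₀ : T' ⟶ U := Over.homMk (Limits.pullback.snd x₀.left g.left) (by
    change Limits.pullback.snd x₀.left g.left ≫ U.hom = Limits.pullback.fst x₀.left g.left ≫ T.hom
    rw [← Over.w x₀, ← Over.w g, ← Category.assoc, ← Category.assoc, Limits.pullback.condition])
  have hsq : u₀ ≫ g = q ≫ x₀ := Over.OverMorphism.ext Limits.pullback.condition.symm
  haveI : Etale q.left := inferInstanceAs (Etale (Limits.pullback.fst x₀.left g.left))
  haveI : Surjective q.left := inferInstanceAs (Surjective (Limits.pullback.fst x₀.left g.left))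
  haveI : DescLib.Fpqc q.left := MagnetLib.fpqc_of_fppf _
  let cc' : (attr a Q).obj (op T') := (attr a Q).map q.op cc
  have hev' : (attrToX a Q).app (op T') cc' = q ≫ x₀ :=
    evalAt_map _ a _ q cc
  have hfix : ((εX.app (op T')).toEquiv cc').1 = u₀ ≫ g :=
    (iso_val εX _ hεX cc').trans (hev'.trans hsq.symm)
  obtain ⟨v, hv, hv'⟩ := Limits.Types.exists_of_isPullback (hfpr.map ((evaluation _ (Type u)).obj (op T')))
    ((εX.app (op T')).toEquiv cc') u₀ hfix
  obtain ⟨δ, hδ⟩ := (εU.app (op T')).toEquiv.surjective v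
  let post := MonAct.eqvHom.postcomp (subAct S M Q) g hg
  have hevδ : (attrToX aU Q).app (op T') δ = u₀ :=
    ((iso_val εU _ hεU δ).symm.trans
      (congrArg Subtype.val hδ)).trans hv'
  have hpost : post.app (op T') δ = cc' := by
    refine (εX.app (op T')).toEquiv.injective (Subtype.ext ?_)
    refine (iso_val εX _ hεX (post.app (op T') δ)).trans
      (Eq.trans ?_ hfix.symm)
    rw [← hevδ]
    exact evalAt_postcomp _ aU a g hg _ δ
  exact ⟨T', q, δ, inferInstance, hpost⟩

theorem exists_local_lift [IsSeparated X.hom] [LocallyOfFinitePresentation X.hom] [IsAffineHom U.hom]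
    [Etale g.left] [Surjective g.left]
    (hgZ : ∀ Z : AddSubgroup M, MonAct.IsEquivariant
      (aU.restrict (AMonS.map S (QuotientAddGroup.mk' Z))) (a.restrict (AMonS.map S (QuotientAddGroup.mk' Z))) g)
    (hfpr : ∀ Z : AddSubgroup M, IsPullback (MonAct.fixedPsh.map g (hgZ Z))
      (MonAct.fixedPshι (aU.restrict (AMonS.map S (QuotientAddGroup.mk' Z))))
      (MonAct.fixedPshι (a.restrict (AMonS.map S (QuotientAddGroup.mk' Z)))) (yoneda.map g))
    (hg : MonAct.IsEquivariant aU a g) (N : AddSubmonoid M) {T : Over S} (Φ₀ : (attr a N).obj (op T)) :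
    ∃ (T' : Over S) (q : T' ⟶ T) (ε : (attr aU N).obj (op T')), DescLib.Fpqc q.left ∧
      ε.1 ≫ g = (AMonS S ↥N ◁ q) ≫ Φ₀.1 := by
  let Φ : (attr a N).obj (op T) := Φ₀
  let Q := unitFace N
  have hQ : Magnet.IsFace N Q := isFace_unitFace N
  let Z : AddSubgroup M :=
    { carrier := Q
      zero_mem' := Q.zero_mem
      add_mem' := fun h h' => Q.add_mem h h'
      neg_mem' := fun {m} h => by
        obtain ⟨h1, y, hy, hmy⟩ := mem_unitFace.mp h
        obtain rfl : y = -m := eq_neg_of_add_eq_zero_right hmy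
        exact mem_unitFace.mpr ⟨hy, m, h1, neg_add_cancel m⟩ }
  have hQZ : ∀ m, m ∈ Q ↔ m ∈ Z := fun _ => Iff.rfl
  obtain ⟨T', q, δ, hq, hpost⟩ := exists_unit_lift a aU g hg Q Z hQZ (hgZ Z) (hfpr Z) ((attrFace a hQ).app (op T) Φ)
  haveI := hq
  let Φ' : (attr a N).obj (op T') := (attr a N).map q.op Φ
  have hface : (attrFace a hQ).app (op T') Φ' = (MonAct.eqvHom.postcomp (subAct S M Q) g hg).app (op T') δ := by
    rw [hpost]
    apply Subtype.ext
    simp only [Φ', attrFace_app_coe, MonAct.eqvHom_map_coe, Quiver.Hom.unop_op, whisker_exchange_assoc]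
  have hpb := Groth.Agent.S18302.result S M X U (MonAct.toAction (G := Red.DS S M) a)
    (MonAct.toAction (G := Red.DS S M) aU) g hg N Q hQ (Or.inr ⟨inferInstance, inferInstance⟩)
  obtain ⟨ε, hε, -⟩ := Limits.Types.exists_of_isPullback (hpb.map ((evaluation _ (Type u)).obj (op T'))) Φ' δ hface
  exact ⟨T', q, ε, inferInstance, congrArg Subtype.val hε⟩

/-- Membership in the image of an attractor passes along the atlas. -/
theorem ext_of_atlas [IsSeparated X.hom] [LocallyOfFinitePresentation X.hom] [IsAffineHom U.hom]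
    [Etale g.left] [Surjective g.left]
    (hgZ : ∀ Z : AddSubgroup M, MonAct.IsEquivariant
      (aU.restrict (AMonS.map S (QuotientAddGroup.mk' Z))) (a.restrict (AMonS.map S (QuotientAddGroup.mk' Z))) g)
    (hfpr : ∀ Z : AddSubgroup M, IsPullback (MonAct.fixedPsh.map g (hgZ Z))
      (MonAct.fixedPshι (aU.restrict (AMonS.map S (QuotientAddGroup.mk' Z))))
      (MonAct.fixedPshι (a.restrict (AMonS.map S (QuotientAddGroup.mk' Z)))) (yoneda.map g))
    (hg : MonAct.IsEquivariant aU a g) (N L : AddSubmonoid M)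
    (hU : ∀ (T : Over S) (u : T ⟶ U), Ext aU N u → Ext aU L u)
    {T : Over S} (x : T ⟶ X) (hx : Ext a N x) : Ext a L x := by
  obtain ⟨φ, hφ⟩ := hx
  obtain ⟨T', q, ε, hq, hεφ⟩ := exists_local_lift a aU g hgZ hfpr hg N ⟨φ, MagnetLib.isEqvFam_of_ext hφ⟩
  haveI := hq
  change ε.1 ≫ g = (AMonS S ↥N ◁ q) ≫ φ at hεφ
  haveI : IsSeparated U.hom := inferInstance
  let u : T' ⟶ U := lift (toUnit T' ≫ η[AMonS S ↥N]) (𝟙 T') ≫ ε.1
  obtain ⟨ψ, hψ⟩ := hU T' u ⟨ε.1, MagnetLib.ext_of_isEqvFam ε.2⟩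
  have hug : u ≫ g = q ≫ x := by
    rw [← MagnetLib.eval_of_ext hφ, Category.assoc, hεφ, comp_lift_assoc, lift_whiskerLeft_assoc, Category.id_comp,
      Category.comp_id, ← Category.assoc q, toUnit_unique (q ≫ toUnit T) (toUnit T')]
  have hψg : (AMonS.map S L.subtype ▷ T') ≫ (ψ ≫ g) = MagnetLib.orbit a (q ≫ x) := by
    have hg' : aU.act ≫ g = (AMonS S M ◁ g) ≫ a.act := hg
    rw [← Category.assoc, hψ, MagnetLib.orbit, Category.assoc, hg', ← MonoidalCategory.whiskerLeft_comp_assoc, hug]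
    rfl
  obtain ⟨ccL, hccL, hccL'⟩ := MagnetLib.exists_descend (a := a) (N := L) q (ψ ≫ g)
    (MagnetLib.isEqvFam_of_ext hψg) fun R t₁ t₂ ht => by
      refine MagnetLib.ext_unique (a := a) (x := (t₁ ≫ q) ≫ x) ?_ ?_
      · rw [← whisker_exchange_assoc, hψg, ← MagnetLib.orbit_comp, Category.assoc]
      · rw [ht, ← whisker_exchange_assoc, hψg, ← MagnetLib.orbit_comp, Category.assoc]
  refine ⟨ccL, ?_⟩
  rw [MagnetLib.ext_of_isEqvFam hccL]
  congr 1
  haveI : Epi q := (Over.forget S).epi_of_epi_map (show Epi q.left from inferInstance)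
  refine (cancel_epi q).mp ?_
  rw [← MagnetLib.eval_of_ext hψg, ← hccL']
  simp [comp_lift_assoc]

end PureMagLib

end
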