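import Groth.Agent.MagnetLib.AffineRep
import Mathlib.AlgebraicGeometry.Morphisms.FiniteType

/-!
# Finitely many degrees decide the images of attractors of affine schemes
-/

set_option autoImplicit false
set_option linter.style.haveILetI false
universe u

open CategoryTheory CategoryTheory.Limits MonoidalCategory CartesianMonoidalCategory MonObj AlgebraicGeometry Opposite
open Magnet
open MagnetLib (Ext coef)

noncomputable section

namespace PureMagLib

variable {S : Scheme.{u}} {M : Type} [AddCommMonoid M] {X : Over S} (a : MonAct (AMonS S M) X)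

theorem mem_range_attrToX_iff [IsSeparated X.hom] (N : AddSubmonoid M) (T : Over S) (x : T ⟶ X) :
    x ∈ Set.range (fun φ => (attrToX a N).app (op T) φ) ↔ Ext a N x := by
  constructor
  · rintro ⟨φ, rfl⟩
    exact ⟨φ.1, MagnetLib.ext_of_isEqvFam φ.2⟩
  · rintro ⟨ψ, hψ⟩
    exact ⟨⟨ψ, MagnetLib.isEqvFam_of_ext hψ⟩, MagnetLib.eval_of_ext hψ⟩

variable [IsAffineHom X.hom] [LocallyOfFiniteType X.hom]

set_option backward.isDefEq.respectTransparency.types false in
theorem exists_degrees {W : Over S} [IsAffine W.left] (x : W ⟶ X) :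
    ∃ E : Set M, E.Finite ∧ ∀ (N L : AddSubmonoid M), (∀ m ∈ E, m ∈ N → m ∈ L) →
      ∀ (W' : Over S), IsAffine W'.left → ∀ e : W' ⟶ W, Ext a N (e ≫ x) → Ext a L (e ≫ x) := by
  classical
  haveI : IsAffineHom (snd X W).left :=
    MorphismProperty.pullback_snd (P := @IsAffineHom) X.hom W.hom inferInstance
  haveI : LocallyOfFiniteType (snd X W).left :=
    MorphismProperty.pullback_snd (P := @LocallyOfFiniteType) X.hom W.hom inferInstance
  haveI : IsAffine (X ⊗ W).left := isAffine_of_isAffineHom (snd X W).left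
  have hft : (snd X W).left.appTop.hom.FiniteType :=
    HasRingHomProperty.appTop @LocallyOfFiniteType _ inferInstance
  let s := (snd X W).left.appTop.hom
  letI := s.toAlgebra
  haveI : Algebra.FiniteType Γ(W.left, ⊤) Γ((X ⊗ W).left, ⊤) := hft
  obtain ⟨t, ht⟩ := Algebra.FiniteType.out (R := Γ(W.left, ⊤)) (A := Γ((X ⊗ W).left, ⊤))
  refine ⟨⋃ b ∈ t, Multiplicative.toAdd '' ((coef a x b).coeff.support : Set (Multiplicative M)),
    (t.finite_toSet).biUnion fun b _ => (Finset.finite_toSet _).image _, fun N L hE W' _ e h => ?_⟩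
  rw [MagnetLib.ext_comp_iff a N e x] at h
  rw [MagnetLib.ext_comp_iff a L e x]
  let h₀ : Γ((X ⊗ W).left, ⊤) →+* MonoidAlgebra Γ(W'.left, ⊤) (Multiplicative M) :=
    (MonoidAlgebra.mapRingHom (Multiplicative M) e.left.appTop.hom).comp (coef a x)
  have hmap : ∀ b (m : Multiplicative M), (h₀ b).coeff m = e.left.appTop ((coef a x b).coeff m) :=
    fun b m => Finsupp.mapRange_apply (hf := map_zero e.left.appTop.hom) ..
  let K := ((MonoidAlgebra.mapDomainRingHom Γ(W'.left, ⊤) (AddMonoidHom.toMultiplicative L.subtype)).range).comap h₀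
  suffices hK : ∀ b, b ∈ K by
    intro b m hm
    rw [← hmap]
    exact (MagnetLib.mem_range_mapDomain_iff _).mp (hK b) m hm
  intro b
  have hb : b ∈ Algebra.adjoin Γ(W.left, ⊤) (t : Set Γ((X ⊗ W).left, ⊤)) := ht ▸ Algebra.mem_top
  induction hb using Algebra.adjoin_induction with
  | mem y hy =>
    refine (MagnetLib.mem_range_mapDomain_iff _).mpr fun m hm => ?_
    rw [hmap]
    by_cases hmN : Multiplicative.toAdd m ∈ N
    · by_cases h0 : (coef a x y).coeff m = 0
      · rw [h0, map_zero]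
      · refine absurd (hE _ ?_ hmN) hm
        exact Set.mem_biUnion hy ⟨m, Finsupp.mem_support_iff.mpr h0, rfl⟩
    · exact h y m hmN
  | algebraMap r =>
    refine (MagnetLib.mem_range_mapDomain_iff _).mpr fun m hm => ?_
    rw [hmap, RingHom.algebraMap_toAlgebra, MagnetLib.coef_snd, MonoidAlgebra.coeff_single, Finsupp.single_eq_of_ne,
      map_zero]
    rintro rfl
    exact hm L.zero_mem
  | add y z _ _ hy hz => exact K.add_mem hy hz
  | mul y z _ _ hy hz => exact K.mul_mem hy hz

set_option backward.isDefEq.respectTransparency.types false in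
theorem exists_finite_degrees [CompactSpace S] :
    ∃ E₀ : Set M, E₀.Finite ∧ ∀ N L : AddSubmonoid M, (∀ m ∈ E₀, m ∈ N → m ∈ L) →
      ∀ (T : Over S) (y : T ⟶ X), Ext a N y → Ext a L y := by
  classical
  haveI : IsSeparated X.hom := inferInstance
  haveI : CompactSpace X.left := QuasiCompact.compactSpace_of_compactSpace X.hom
  let 𝒰 := X.left.affineCover.finiteSubcover
  let W : 𝒰.I₀ → Over S := fun i => Over.mk (𝒰.f i ≫ X.hom)
  let x : ∀ i, W i ⟶ X := fun i => Over.homMk (𝒰.f i) rfl
  haveI : ∀ i, IsAffine (W i).left := fun i => inferInstanceAs (IsAffine (𝒰.X i))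
  choose E hEf hE using fun i => exists_degrees a (x i)
  let E₀ : Set M := ⋃ i, E i
  have hE₀ : E₀.Finite := Set.finite_iUnion hEf
  have hmain : ∀ N L : AddSubmonoid M, (∀ m ∈ E₀, m ∈ N → m ∈ L) →
      ∀ (T : Over S) (y : T ⟶ X), Ext a N y → Ext a L y := by
    intro N L hNL T y hy
    let Q : 𝒰.I₀ × T.left.affineOpens → T.left.Opens := fun p => p.2.1
    let J := {p : 𝒰.I₀ × T.left.affineOpens // p.2.1 ≤ y.left ⁻¹ᵁ (𝒰.f p.1).opensRange}
    refine MagnetLib.ext_of_local y (fun p : J => Q p.1) ?_ fun p => ?_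
    · refine eq_top_iff.mpr fun t _ => TopologicalSpace.Opens.mem_iSup.mpr ?_
      obtain ⟨i, hi⟩ : ∃ i, y.left t ∈ (𝒰.f i).opensRange := ⟨_, 𝒰.covers (y.left t)⟩
      obtain ⟨V, hV, htV, hVle⟩ := exists_isAffineOpen_mem_and_subset (x := t)
        (U := y.left ⁻¹ᵁ (𝒰.f i).opensRange) hi
      exact ⟨⟨⟨i, ⟨V, hV⟩⟩, hVle⟩, htV⟩
    · obtain ⟨⟨i, V⟩, hle⟩ := p
      let W' : Over S := Over.mk (V.1.ι ≫ T.hom)
      let q : W' ⟶ T := Over.homMk V.1.ι rfl
      haveI : IsAffine W'.left := V.2
      have hr : Set.range (q ≫ y).left ⊆ Set.range (x i).left := by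
        rintro _ ⟨w, rfl⟩
        exact hle w.2
      haveI : IsOpenImmersion (x i).left := inferInstanceAs (IsOpenImmersion (𝒰.f i))
      let e : W' ⟶ W i := Over.homMk (IsOpenImmersion.lift (x i).left (q ≫ y).left hr) (by
        rw [← Over.w (x i), IsOpenImmersion.lift_fac_assoc, Over.w (q ≫ y)])
      have he : e ≫ x i = q ≫ y := Over.OverMorphism.ext (IsOpenImmersion.lift_fac _ _ hr)
      change Ext a L (q ≫ y)
      rw [← he]
      exact hE i N L (fun m hm => hNL m (Set.mem_iUnion_of_mem i hm)) W' inferInstance e (he ▸ hy.precomp q)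
  exact ⟨E₀, hE₀, hmain⟩

set_option backward.isDefEq.respectTransparency.types false in
theorem finite_pure [CompactSpace S] :
    Set.Finite {N : AddSubmonoid M | ∀ L : AddSubmonoid M,
      (∀ T : Over S, Set.range (fun φ => (attrToX a N).app (op T) φ) =
        Set.range (fun φ => (attrToX a L).app (op T) φ)) → N ≤ L} := by
  classical
  haveI : IsSeparated X.hom := inferInstance
  obtain ⟨E₀, hE₀, hmain⟩ := exists_finite_degrees a
  refine Set.Finite.subset (hE₀.finite_subsets.image fun F => AddSubmonoid.closure F) ?_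
  intro N hN
  refine ⟨E₀ ∩ N, Set.inter_subset_left, ?_⟩
  have hle : AddSubmonoid.closure (E₀ ∩ (N : Set M)) ≤ N := AddSubmonoid.closure_le.mpr Set.inter_subset_right
  refine le_antisymm hle (hN _ fun T => Set.ext fun y => ?_)
  rw [mem_range_attrToX_iff, mem_range_attrToX_iff]
  exact ⟨hmain _ _ (fun m hm hmN => AddSubmonoid.subset_closure (s := E₀ ∩ (N : Set M)) ⟨hm, hmN⟩) T y,
    hmain _ _ (fun m _ hmL => hle hmL) T y⟩

end PureMagLib

end
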